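import Mathlib

/-!
# Filtrations with quotients embedding in `A ⧸ p` (helper24)

`HasFilt p N`: the submodule `N` of `M` has a finite decreasing filtration ending at `⊥` whose
successive quotients embed `A`-linearly into `A ⧸ p`.
-/

set_option autoImplicit false
universe u

namespace Groth.Agent.Lib.Helper24.AssFilt

open Submodule

variable {A : Type u} [CommRing A] {M : Type u} [AddCommGroup M] [Module A M]

/-- `N` has a finite filtration down to `⊥` with successive quotients embedding in `A ⧸ p`. -/
def HasFilt (p : Ideal A) (N : Submodule A M) : Prop :=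
  ∃ (m : ℕ) (F : Fin (m + 1) → Submodule A M), Antitone F ∧ F 0 = N ∧ F (Fin.last m) = ⊥ ∧
    ∀ i : Fin m, ∃ g : (↥(F i.castSucc) ⧸ Submodule.comap (F i.castSucc).subtype (F i.succ))
      →ₗ[A] (A ⧸ p), Function.Injective g

theorem hasFilt_bot (p : Ideal A) : HasFilt p (⊥ : Submodule A M) :=
  ⟨0, fun _ => ⊥, fun _ _ _ => le_rfl, rfl, rfl, fun i => i.elim0⟩

theorem hasFilt_step (p : Ideal A) {N N' : Submodule A M} (hN : HasFilt p N) (hle : N ≤ N')
    (g : (↥N' ⧸ Submodule.comap N'.subtype N) →ₗ[A] (A ⧸ p)) (hg : Function.Injective g) :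
    HasFilt p N' := by
  obtain ⟨m, F, hF, h0, hlast, hq⟩ := hN
  subst h0
  refine ⟨m + 1, Fin.cons N' F, ?_, rfl, ?_, ?_⟩
  · rw [Fin.antitone_iff_succ_le]
    intro i
    induction i using Fin.cases with
    | zero => exact hle
    | succ j => exact Fin.antitone_iff_succ_le.mp hF j
  · exact hlast
  · intro i
    induction i using Fin.cases with
    | zero => exact ⟨g, hg⟩
    | succ j => exact hq j

end Groth.Agent.Lib.Helper24.AssFilt
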