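import Groth.Agent.Lib.Helper24.AssFilt.Step

/-!
# Final assembly: a module with a single associated prime `p` has a filtration with quotients
inside `A ⧸ p` (helper24)
-/

set_option autoImplicit false
universe u

namespace Groth.Agent.Lib.Helper24.AssFilt

open Submodule

theorem main (A : Type u) [CommRing A] [IsNoetherianRing A]
    (M : Type u) [AddCommGroup M] [Module A M] [Module.Finite A M] (p : Ideal A)
    (hp : associatedPrimes A M = {p}) :
    ∃ (m : ℕ) (F : Fin (m + 1) → Submodule A M), Antitone F ∧ F 0 = ⊤ ∧ F (Fin.last m) = ⊥ ∧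
      ∀ i : Fin m, ∃ g : (↥(F i.castSucc) ⧸ Submodule.comap (F i.castSucc).subtype (F i.succ))
        →ₗ[A] (A ⧸ p), Function.Injective g := by
  haveI hpr : p.IsPrime := isPrime_of_ass p hp
  have hrad := le_radical_annihilator p hp
  haveI : IsNoetherian A M := isNoetherian_of_isNoetherianRing_of_finite A M
  let S : Set (Submodule A M) :=
    {N | HasFilt p N ∧ ∀ a, a ∉ p → ∀ y : M, a • y ∈ N → y ∈ N}
  have hS : S.Nonempty := ⟨⊥, hasFilt_bot p, fun a ha y hy => by
    rw [mem_bot] at hy ⊢
    exact eq_zero_of_smul_eq_zero p hp ha hy⟩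
  obtain ⟨N, hN, hmax⟩ := set_has_maximal_iff_noetherian.mpr ‹_› S hS
  have hNtop : N = ⊤ := by
    by_contra hne
    obtain ⟨N', hlt, hf, hT⟩ := step p hrad N hne hN.1 hN.2
    exact hmax N' ⟨hf, hT⟩ hlt
  rw [hNtop] at hN
  exact hN.1

end Groth.Agent.Lib.Helper24.AssFilt
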