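import Groth.Agent.Lib.Helper24.AssFilt.Filt

/-!
# Modules with a single associated prime have a filtration with quotients inside `A ⧸ p`
(helper24)
-/

set_option autoImplicit false
universe u

namespace Groth.Agent.Lib.Helper24.AssFilt

open Submodule

variable {A : Type u} [CommRing A] {M : Type u} [AddCommGroup M] [Module A M]

/-- Uniform denominators on a finitely generated submodule. -/
theorem exists_uniform (S : Submonoid A) (L : Submodule A M) (T : Finset M)
    (h : ∀ z ∈ T, ∃ a ∈ S, a • z ∈ L) :
    ∃ a ∈ S, ∀ z ∈ span A (T : Set M), a • z ∈ L := by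
  classical
  induction T using Finset.induction_on with
  | empty =>
    refine ⟨1, S.one_mem, fun z hz => ?_⟩
    simp only [Finset.coe_empty, span_empty, mem_bot] at hz
    simp [hz]
  | insert s T hs ih =>
    obtain ⟨a₁, ha₁, h₁⟩ := h s (Finset.mem_insert_self s T)
    obtain ⟨a₂, ha₂, h₂⟩ := ih (fun z hz => h z (Finset.mem_insert_of_mem hz))
    refine ⟨a₁ * a₂, S.mul_mem ha₁ ha₂, fun z hz => ?_⟩
    rw [Finset.coe_insert, mem_span_insert] at hz
    obtain ⟨c, w, hw, rfl⟩ := hz
    have e : (a₁ * a₂) • (c • s + w) = (c * a₂) • (a₁ • s) + a₁ • (a₂ • w) := by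
      simp only [smul_add, smul_smul]
      congr 1
      · congr 1; ring
    rw [e]
    exact L.add_mem (L.smul_mem _ h₁) (L.smul_mem _ (h₂ w hw))

section

variable [IsNoetherianRing A] [Module.Finite A M] (p : Ideal A)
  (hp : associatedPrimes A M = {p})

include hp

theorem isPrime_of_ass : p.IsPrime := by
  have : p ∈ associatedPrimes A M := by rw [hp]; rfl
  exact IsAssociatedPrime.isPrime this

theorem eq_zero_of_smul_eq_zero {a : A} (ha : a ∉ p) {y : M} (h : a • y = 0) : y = 0 := by
  by_contra hy
  have : a ∈ ⋃ q ∈ associatedPrimes A M, (q : Set A) := by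
    rw [biUnion_associatedPrimes_eq_zero_divisors]
    exact ⟨y, hy, h⟩
  rw [hp] at this
  simp only [Set.mem_singleton_iff, Set.iUnion_iUnion_eq_left, SetLike.mem_coe] at this
  exact ha this

theorem le_radical_annihilator : p ≤ (Module.annihilator A M).radical := by
  rw [← Ideal.sInf_minimalPrimes]
  refine le_sInf fun q hq => ?_
  have := Module.associatedPrimes.minimalPrimes_annihilator_subset_associatedPrimes A M hq
  rw [hp] at this
  rw [Set.mem_singleton_iff.mp this]

end

end Groth.Agent.Lib.Helper24.AssFilt
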