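import Groth.Agent.Lib.Helper24.AssFilt.Main

/-!
# The inductive step for the filtration (helper24)
-/

set_option autoImplicit false
universe u

namespace Groth.Agent.Lib.Helper24.AssFilt

open Submodule

variable {A : Type u} [CommRing A] {M : Type u} [AddCommGroup M] [Module A M]

/-- The `p`-saturation of a submodule `L`. -/
def sat (p : Ideal A) [p.IsPrime] (L : Submodule A M) : Submodule A M where
  carrier := {z | ∃ a ∈ p.primeCompl, a • z ∈ L}
  zero_mem' := ⟨1, p.primeCompl.one_mem, by simp⟩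
  add_mem' := by
    rintro z₁ z₂ ⟨a₁, ha₁, h₁⟩ ⟨a₂, ha₂, h₂⟩
    refine ⟨a₁ * a₂, p.primeCompl.mul_mem ha₁ ha₂, ?_⟩
    have e : (a₁ * a₂) • (z₁ + z₂) = a₂ • (a₁ • z₁) + a₁ • (a₂ • z₂) := by
      simp only [smul_add, smul_smul]
      congr 2
      ring
    rw [e]
    exact L.add_mem (L.smul_mem _ h₁) (L.smul_mem _ h₂)
  smul_mem' := by
    rintro c z ⟨a, ha, h⟩
    refine ⟨a, ha, ?_⟩
    rw [smul_comm]
    exact L.smul_mem _ h

theorem mem_sat (p : Ideal A) [p.IsPrime] (L : Submodule A M) (z : M) :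
    z ∈ sat p L ↔ ∃ a ∈ p.primeCompl, a • z ∈ L := Iff.rfl

theorem le_sat (p : Ideal A) [p.IsPrime] (L : Submodule A M) : L ≤ sat p L :=
  fun z hz => ⟨1, p.primeCompl.one_mem, by simpa using hz⟩

theorem sat_saturated (p : Ideal A) [p.IsPrime] (L : Submodule A M) (a : A) (ha : a ∉ p) (z : M)
    (h : a • z ∈ sat p L) : z ∈ sat p L := by
  obtain ⟨a', ha', h'⟩ := h
  refine ⟨a' * a, p.primeCompl.mul_mem ha' ha, ?_⟩
  rwa [mul_smul]

theorem step [IsNoetherianRing A] [Module.Finite A M] (p : Ideal A) [hpr : p.IsPrime]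
    (hrad : p ≤ (Module.annihilator A M).radical)
    (N : Submodule A M) (hNtop : N ≠ ⊤) (hfilt : HasFilt p N)
    (hT : ∀ a, a ∉ p → ∀ y : M, a • y ∈ N → y ∈ N) :
    ∃ N' : Submodule A M, N < N' ∧ HasFilt p N' ∧
      (∀ a, a ∉ p → ∀ y : M, a • y ∈ N' → y ∈ N') := by
  haveI : Nontrivial (M ⧸ N) := Submodule.Quotient.nontrivial_iff.mpr hNtop
  obtain ⟨q, hq⟩ := associatedPrimes.nonempty A (M ⧸ N)
  rw [AssociatedPrimes.mem_iff, isAssociatedPrime_iff] at hq
  obtain ⟨hqp, ybar, hqy⟩ := hq
  obtain ⟨y, rfl⟩ := Submodule.Quotient.mk_surjective N ybar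
  have hmemq : ∀ b : A, b ∈ q ↔ b • y ∈ N := by
    intro b
    rw [hqy, mem_colon_singleton, mem_bot, ← Submodule.Quotient.mk_smul,
      Submodule.Quotient.mk_eq_zero]
  have hqeq : q = p := by
    apply le_antisymm
    · intro a ha
      by_contra hap
      have hy : y ∈ N := hT a hap y ((hmemq a).mp ha)
      apply hqp.ne_top
      rw [Ideal.eq_top_iff_one, hmemq, one_smul]
      exact hy
    · intro b hb
      obtain ⟨n, hn⟩ := hrad hb
      have : b ^ n ∈ q := by
        rw [hmemq, Module.mem_annihilator.mp hn y]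
        exact N.zero_mem
      exact hqp.mem_of_pow_mem n this
  have hmem : ∀ b : A, b ∈ p ↔ b • y ∈ N := by
    intro b
    rw [← hqeq]
    exact hmemq b
  have hyN : y ∉ N := by
    intro hy
    apply hpr.ne_top
    rw [Ideal.eq_top_iff_one, hmem, one_smul]
    exact hy
  set L : Submodule A M := N ⊔ span A {y} with hL
  refine ⟨sat p L, ?_, ?_, sat_saturated p L⟩
  · refine lt_of_le_of_ne (le_sup_left.trans (le_sat p L)) ?_
    intro h
    apply hyN
    rw [h]
    exact le_sat p L (le_sup_right (a := N) (subset_span (Set.mem_singleton y)))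
  · -- the filtration step
    haveI : IsNoetherian A M := isNoetherian_of_isNoetherianRing_of_finite A M
    obtain ⟨T, hTspan⟩ := (IsNoetherian.noetherian (sat p L) : (sat p L).FG)
    obtain ⟨a, ha, hall⟩ := exists_uniform p.primeCompl L T (fun z hz => by
      have : z ∈ sat p L := by
        rw [← hTspan]
        exact subset_span hz
      exact this)
    rw [hTspan] at hall
    -- the map `ψ`
    let ψ : ↥(sat p L) →ₗ[A] M ⧸ N := N.mkQ ∘ₗ (LinearMap.lsmul A M a) ∘ₗ (sat p L).subtype
    have hψ : ∀ z : ↥(sat p L), ψ z = Submodule.Quotient.mk (a • (z : M)) := fun z => rfl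
    -- the map `φ`
    have hφle : p ≤ LinearMap.ker (LinearMap.toSpanSingleton A (M ⧸ N) (Submodule.Quotient.mk y)) := by
      intro b hb
      rw [LinearMap.mem_ker, LinearMap.toSpanSingleton_apply, ← Submodule.Quotient.mk_smul,
        Submodule.Quotient.mk_eq_zero]
      exact (hmem b).mp hb
    have hφge : LinearMap.ker (LinearMap.toSpanSingleton A (M ⧸ N) (Submodule.Quotient.mk y)) ≤ p := by
      intro b hb
      rw [LinearMap.mem_ker, LinearMap.toSpanSingleton_apply, ← Submodule.Quotient.mk_smul,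
        Submodule.Quotient.mk_eq_zero] at hb
      exact (hmem b).mpr hb
    let φ : (A ⧸ p) →ₗ[A] M ⧸ N :=
      Submodule.liftQ p (LinearMap.toSpanSingleton A (M ⧸ N) (Submodule.Quotient.mk y)) hφle
    have hφinj : Function.Injective φ :=
      LinearMap.ker_eq_bot.mp (Submodule.ker_liftQ_eq_bot p _ hφle hφge)
    -- the induced map on the quotient
    have hKle : Submodule.comap (sat p L).subtype N ≤ LinearMap.ker ψ := by
      intro z hz
      rw [LinearMap.mem_ker, hψ, Submodule.Quotient.mk_eq_zero]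
      exact N.smul_mem a hz
    have hKge : LinearMap.ker ψ ≤ Submodule.comap (sat p L).subtype N := by
      intro z hz
      rw [LinearMap.mem_ker, hψ, Submodule.Quotient.mk_eq_zero] at hz
      exact hT a ha z hz
    let ψbar : (↥(sat p L) ⧸ Submodule.comap (sat p L).subtype N) →ₗ[A] M ⧸ N :=
      Submodule.liftQ _ ψ hKle
    have hψbarinj : Function.Injective ψbar :=
      LinearMap.ker_eq_bot.mp (Submodule.ker_liftQ_eq_bot _ ψ hKle hKge)
    have hrange : ∀ x, ψbar x ∈ LinearMap.range φ := by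
      intro x
      obtain ⟨z, rfl⟩ := Submodule.Quotient.mk_surjective _ x
      have hz : a • (z : M) ∈ N ⊔ span A {y} := hall z z.2
      rw [mem_sup] at hz
      obtain ⟨n, hn, w, hw, hnw⟩ := hz
      obtain ⟨c, rfl⟩ := mem_span_singleton.mp hw
      refine ⟨Submodule.Quotient.mk c, ?_⟩
      change c • (Submodule.Quotient.mk y : M ⧸ N) = Submodule.Quotient.mk (a • (z : M))
      rw [← hnw, Submodule.Quotient.mk_add, (Submodule.Quotient.mk_eq_zero N).mpr hn, zero_add,
        Submodule.Quotient.mk_smul]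
    refine hasFilt_step p hfilt (le_sup_left.trans (le_sat p L))
      ((LinearEquiv.ofInjective φ hφinj).symm.toLinearMap ∘ₗ
        (ψbar.codRestrict (LinearMap.range φ) hrange)) ?_
    rw [LinearMap.coe_comp, LinearEquiv.coe_coe]
    refine (LinearEquiv.injective _).comp ?_
    intro x x' hxx'
    apply hψbarinj
    exact congrArg Subtype.val hxx'

end Groth.Agent.Lib.Helper24.AssFilt
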